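import Cfsg.Agent.Lib.Helper20.TitsM.LkTData

set_option autoImplicit false
set_option maxRecDepth 100000

namespace Cfsg.Agent.Lib.Helper20.TitsM.LkT

open Cfsg.Agent.Lib.Helper28

theorem chk_6 : allRange D.checkLabel 6000 1000 = true := by decide +kernel
theorem chk_7 : allRange D.checkLabel 7000 1000 = true := by decide +kernel
theorem chk_8 : allRange D.checkLabel 8000 1000 = true := by decide +kernel
theorem chk_9 : allRange D.checkLabel 9000 1000 = true := by decide +kernel
theorem chk_10 : allRange D.checkLabel 10000 1000 = true := by decide +kernel
theorem chk_11 : allRange D.checkLabel 11000 1000 = true := by decide +kernel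

end Cfsg.Agent.Lib.Helper20.TitsM.LkT
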