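import Cfsg.Agent.Lib.Helper20.TitsM.LkTData

set_option autoImplicit false
set_option maxRecDepth 100000

namespace Cfsg.Agent.Lib.Helper20.TitsM.LkT

open Cfsg.Agent.Lib.Helper28

theorem chk_24 : allRange D.checkLabel 24000 1000 = true := by decide +kernel
theorem chk_25 : allRange D.checkLabel 25000 1000 = true := by decide +kernel
theorem chk_26 : allRange D.checkLabel 26000 1000 = true := by decide +kernel
theorem chk_27 : allRange D.checkLabel 27000 1000 = true := by decide +kernel
theorem chk_28 : allRange D.checkLabel 28000 1000 = true := by decide +kernel
theorem chk_29 : allRange D.checkLabel 29000 1000 = true := by decide +kernel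

end Cfsg.Agent.Lib.Helper20.TitsM.LkT
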