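/-
Helper library (helper20): relators for the Todd-Coxeter part of S2115 (Schur multiplier of the Tits group).
Letters `2 i`, `2 i + 1` are the generator number `i` and its inverse; all generators have order 3.
-/
import Cfsg.Agent.Lib.Helper28.TCChain

set_option autoImplicit false

namespace Cfsg.Agent.Lib.Helper20.TitsM

open Cfsg.Agent.Lib.Helper28

/-- the inverse letter -/
def oinv (x : ℕ) : ℕ := if x % 2 = 0 then x + 1 else x - 1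

/-- the relator `w⁻¹ x w = x₂` -/
def relA (d : ℕ × List ℕ × ℕ) : List ℕ := invrev oinv d.2.1 ++ d.1 :: (d.2.1 ++ [oinv d.2.2])

/-- the relator `a⁻¹ b⁻¹ a b = c` -/
def relB (d : ℕ × ℕ × ℕ) : List ℕ := [oinv d.1, oinv d.2.1, d.1, d.2.1, oinv d.2.2]

def cubesL : List ℕ := [0, 2, 4, 6, 8, 10]
def dataLA : List (ℕ × List ℕ × ℕ) := [
  (0, [6], 0),
  (0, [8], 0),
  (2, [4], 2),
  (2, [8], 2),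
  (4, [10], 4),
  (6, [10], 6)]
def dataLB : List (ℕ × ℕ × ℕ) := [
  (0, 2, 8),
  (0, 10, 6),
  (2, 10, 5),
  (4, 6, 11),
  (4, 8, 3),
  (6, 8, 0)]
def relsL : List (List ℕ) := cubesL.map (fun x => [x, x, x]) ++ dataLA.map relA ++ dataLB.map relB
def dataTA : List (ℕ × List ℕ × ℕ) := [
  (12, [3, 1], 12),
  (12, [1, 13], 3),
  (12, [8, 12, 9], 12),
  (0, [13, 2, 8], 12),
  (12, [2, 0, 8], 12),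
  (0, [13, 1, 8], 12),
  (8, [12, 8, 13], 8),
  (8, [12, 1, 12], 9),
  (8, [12, 2, 12], 9),
  (4, [13, 3, 13], 7),
  (0, [12, 2, 12], 3),
  (2, [12, 9, 3], 13),
  (2, [12, 3, 9], 13),
  (0, [2, 13, 1], 12),
  (2, [0, 12, 3], 13),
  (0, [13, 8, 1], 12),
  (0, [13, 0, 3], 12),
  (12, [10, 8, 10, 12], 2),
  (12, [11, 7, 10, 6], 12),
  (12, [11, 5, 10, 4], 12),
  (12, [11, 4, 10, 5], 12),
  (12, [11, 6, 10, 7], 12),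
  (10, [12, 2, 12, 7], 4),
  (12, [0, 8, 12, 2], 0),
  (2, [13, 9, 0, 13], 1),
  (2, [13, 8, 12, 1], 2),
  (8, [12, 3, 1, 13], 8),
  (8, [13, 2, 1, 13], 9),
  (0, [13, 9, 12, 2], 0),
  (12, [7, 9, 6, 12], 0),
  (6, [12, 8, 13, 7], 2),
  (12, [7, 1, 6, 13], 3),
  (12, [7, 0, 6, 1], 12),
  (12, [7, 10, 6, 11], 12),
  (6, [12, 1, 12, 5], 1),
  (12, [5, 9, 4, 12], 0),
  (10, [13, 3, 13, 5], 7),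
  (12, [5, 3, 4, 1], 12),
  (6, [13, 3, 13, 5], 1),
  (12, [5, 2, 4, 3], 12),
  (12, [5, 8, 4, 13], 3),
  (12, [5, 10, 4, 11], 12),
  (4, [12, 9, 13, 4], 0),
  (6, [13, 8, 0, 13], 5),
  (4, [12, 2, 12, 7], 3),
  (2, [12, 2, 12, 2], 1),
  (2, [1, 12, 2, 12], 1),
  (2, [12, 8, 2, 12], 1),
  (0, [12, 9, 13, 3], 0),
  (12, [8, 1, 2, 12], 0),
  (12, [2, 9, 2, 12], 0),
  (12, [6, 1, 7, 13], 3),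
  (12, [8, 0, 12, 2], 0),
  (2, [13, 1, 2, 13], 1),
  (2, [1, 13, 0, 13], 1),
  (0, [3, 12, 9, 13], 0),
  (2, [13, 0, 9, 13], 1),
  (6, [13, 0, 13, 4], 1),
  (12, [4, 3, 5, 1], 12),
  (12, [6, 0, 7, 1], 12),
  (12, [8, 3, 12, 2], 0),
  (12, [4, 2, 5, 3], 12),
  (12, [6, 9, 7, 3], 12),
  (12, [10, 4, 11, 5], 12),
  (12, [10, 6, 11, 7], 12),
  (0, [12, 1, 10, 8, 10], 13),
  (12, [0, 11, 4, 2, 10], 12),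
  (12, [0, 4, 11, 2, 10], 12),
  (2, [10, 12, 1, 12, 6], 2),
  (2, [12, 11, 7, 0, 10], 13),
  (2, [12, 7, 11, 0, 10], 13),
  (0, [10, 12, 9, 13, 6], 2),
  (0, [10, 12, 1, 8, 12], 5),
  (0, [10, 12, 2, 12, 10], 3),
  (0, [10, 12, 8, 1, 12], 5),
  (12, [0, 11, 6, 1, 10], 12),
  (12, [0, 6, 11, 1, 10], 12),
  (12, [2, 11, 5, 3, 10], 12),
  (12, [2, 5, 11, 3, 10], 12),
  (0, [5, 7, 12, 8, 13], 10),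
  (6, [5, 13, 0, 8, 13], 10),
  (6, [5, 13, 8, 0, 13], 10),
  (0, [4, 10, 13, 0, 13], 11),
  (2, [6, 4, 12, 9, 13], 10),
  (4, [13, 0, 12, 8, 12], 7),
  (12, [2, 7, 0, 6, 8], 12),
  (0, [13, 7, 1, 6, 8], 12),
  (2, [12, 7, 9, 6, 8], 13),
  (0, [13, 5, 2, 4, 8], 12),
  (0, [4, 8, 12, 9, 13], 4),
  (12, [2, 5, 9, 4, 8], 12),
  (2, [11, 12, 2, 8, 12], 7),
  (4, [13, 9, 3, 8, 13], 7),
  (4, [12, 8, 1, 8, 12], 7),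
  (2, [12, 4, 8, 5, 8], 13),
  (0, [13, 4, 2, 5, 8], 12),
  (12, [4, 9, 3, 5, 8], 12),
  (12, [0, 4, 9, 5, 8], 12),
  (12, [2, 6, 0, 7, 8], 12),
  (0, [13, 6, 1, 7, 8], 12),
  (12, [0, 6, 9, 7, 8], 12),
  (8, [12, 10, 8, 10, 13], 9),
  (0, [5, 13, 9, 12, 11], 3),
  (0, [11, 13, 9, 12, 7], 3),
  (8, [12, 7, 1, 6, 12], 9),
  (8, [12, 7, 8, 6, 12], 9),
  (0, [3, 5, 13, 9, 12], 4),
  (0, [2, 4, 13, 8, 12], 4),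
  (0, [4, 13, 8, 12, 11], 3),
  (8, [12, 5, 2, 4, 12], 9),
  (8, [12, 5, 8, 4, 12], 9),
  (8, [12, 0, 12, 1, 13], 8),
  (8, [12, 0, 8, 1, 13], 8),
  (0, [10, 3, 13, 8, 12], 6),
  (8, [12, 4, 9, 5, 12], 9),
  (0, [4, 13, 9, 12, 4], 0),
  (8, [12, 4, 2, 5, 12], 9),
  (8, [12, 6, 9, 7, 12], 9),
  (2, [6, 13, 9, 12, 6], 2),
  (8, [12, 6, 1, 7, 12], 9),
  (0, [11, 13, 8, 12, 6], 3),
  (12, [6, 11, 6, 10, 6], 12),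
  (12, [5, 7, 4, 10, 6], 12),
  (12, [0, 11, 1, 10, 6], 12),
  (0, [12, 7, 8, 6, 12], 3),
  (12, [5, 7, 10, 4, 6], 12),
  (12, [10, 5, 7, 4, 6], 12),
  (4, [6, 12, 9, 13, 4], 6),
  (2, [6, 12, 1, 12, 11], 2),
  (2, [6, 12, 2, 9, 12], 5),
  (0, [13, 7, 0, 6, 3], 12),
  (12, [4, 11, 7, 5, 6], 12),
  (12, [4, 7, 11, 5, 6], 12),
  (12, [8, 7, 1, 9, 6], 12),
  (0, [13, 3, 7, 9, 6], 12),
  (0, [11, 2, 12, 8, 13], 7),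
  (0, [5, 13, 0, 8, 13], 7),
  (4, [13, 5, 3, 4, 13], 7),
  (2, [7, 12, 3, 1, 13], 6),
  (4, [13, 4, 3, 5, 13], 7),
  (12, [4, 11, 4, 10, 4], 12),
  (12, [0, 11, 2, 10, 4], 12),
  (12, [6, 5, 7, 10, 4], 12),
  (0, [13, 5, 9, 4, 13], 3),
  (0, [12, 5, 2, 4, 12], 3),
  (0, [4, 12, 9, 13, 10], 2),
  (0, [4, 12, 0, 2, 13], 4),
  (12, [6, 5, 10, 7, 4], 12),
  (12, [6, 10, 5, 7, 4], 12),
  (0, [10, 2, 13, 0, 13], 5),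
  (4, [12, 0, 12, 1, 13], 4),
  (4, [12, 0, 9, 0, 12], 7),
  (4, [12, 6, 9, 7, 12], 7),
  (0, [11, 13, 3, 9, 13], 4),
  (4, [7, 13, 3, 13, 4], 6),
  (0, [5, 12, 2, 12, 6], 3),
  (0, [11, 12, 2, 12, 11], 3),
  (0, [12, 8, 2, 12, 1], 3),
  (0, [2, 12, 3, 1, 13], 0),
  (0, [2, 12, 1, 12, 1], 3),
  (0, [2, 12, 2, 0, 13], 0),
  (0, [3, 13, 0, 2, 12], 0),
  (0, [13, 3, 4, 8, 5], 12),
  (0, [12, 10, 8, 10, 13], 2),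
  (2, [12, 11, 0, 10, 7], 13),
  (6, [13, 2, 12, 0, 12], 6),
  (2, [12, 7, 1, 6, 1], 13),
  (2, [12, 5, 3, 4, 9], 13),
  (0, [12, 1, 13, 2, 12], 0),
  (2, [12, 4, 9, 5, 1], 13),
  (2, [12, 4, 3, 5, 9], 13),
  (2, [12, 4, 2, 9, 5], 13),
  (0, [13, 6, 8, 7, 13], 3),
  (2, [12, 6, 1, 7, 1], 13),
  (2, [12, 6, 8, 7, 9], 13),
  (2, [12, 6, 10, 0, 11], 13),
  (2, [12, 10, 0, 6, 11], 13),
  (2, [12, 10, 6, 0, 11], 13),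
  (0, [12, 0, 12, 2, 13], 0),
  (8, [11, 13, 1, 3, 12], 11),
  (8, [10, 13, 2, 0, 12], 11),
  (2, [10, 13, 2, 0, 12], 5),
  (0, [10, 13, 2, 0, 12], 6),
  (0, [11, 13, 1, 3, 12], 7),
  (2, [11, 13, 1, 3, 12], 4),
  (0, [11, 12, 3, 0, 12], 4),
  (0, [12, 11, 9, 11, 3], 13),
  (0, [12, 0, 8, 2, 13], 0),
  (0, [12, 8, 0, 2, 13], 0),
  (0, [12, 1, 9, 12, 1], 3),
  (0, [12, 0, 3, 0, 13], 0),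
  (0, [12, 4, 2, 5, 12], 3),
  (0, [10, 3, 12, 1, 12], 5),
  (0, [10, 5, 12, 1, 12], 10),
  (6, [4, 13, 0, 13, 4], 6),
  (12, [0, 7, 9, 6, 3], 12),
  (12, [0, 7, 8, 6, 9], 12),
  (12, [0, 7, 10, 1, 11], 12),
  (12, [0, 5, 3, 4, 3], 12),
  (12, [0, 5, 8, 4, 9], 12),
  (12, [0, 5, 10, 2, 11], 12),
  (12, [0, 4, 3, 5, 3], 12),
  (4, [7, 12, 9, 1, 12], 11),
  (2, [7, 12, 9, 1, 12], 5),
  (12, [0, 10, 7, 1, 11], 12),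
  (12, [0, 10, 5, 2, 11], 12),
  (12, [0, 10, 1, 11, 7], 12),
  (12, [0, 10, 2, 11, 5], 12),
  (12, [2, 11, 3, 10, 5], 12),
  (12, [2, 7, 9, 6, 9], 12),
  (0, [13, 4, 8, 5, 3], 12),
  (12, [2, 4, 8, 5, 9], 12),
  (12, [2, 4, 10, 3, 11], 12),
  (0, [13, 6, 0, 7, 3], 12),
  (12, [2, 10, 3, 4, 11], 12),
  (12, [2, 10, 4, 3, 11], 12),
  (0, [3, 13, 4, 9, 5], 12),
  (0, [13, 4, 9, 5, 9], 12),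
  (0, [13, 4, 3, 8, 5], 12),
  (12, [4, 7, 5, 6, 11], 12),
  (12, [4, 6, 5, 10, 7], 12),
  (12, [4, 6, 10, 5, 7], 12),
  (12, [4, 8, 2, 5, 9], 12),
  (12, [4, 10, 6, 5, 7], 12),
  (0, [3, 13, 6, 9, 7], 12),
  (0, [13, 6, 9, 7, 9], 12),
  (4, [7, 12, 1, 9, 12], 11),
  (2, [7, 12, 1, 9, 12], 5),
  (12, [6, 8, 1, 7, 9], 12),
  (2, [13, 10, 8, 10, 9], 12),
  (12, [8, 10, 8, 10, 12, 1], 2),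
  (8, [13, 11, 9, 11, 1, 13], 8),
  (4, [13, 11, 9, 11, 1, 13], 5),
  (12, [11, 9, 3, 8, 2, 10], 12),
  (12, [11, 9, 1, 8, 0, 10], 12),
  (12, [11, 9, 0, 6, 11, 13], 1),
  (12, [11, 9, 2, 8, 3, 10], 12),
  (12, [11, 9, 6, 0, 11, 13], 1),
  (8, [10, 12, 9, 13, 6, 11], 2),
  (10, [12, 0, 8, 2, 13, 11], 9),
  (10, [12, 8, 0, 2, 13, 11], 9),
  (8, [10, 12, 1, 12, 5, 6], 2),
  (10, [12, 1, 2, 1, 13, 11], 9),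
  (8, [10, 12, 2, 12, 10, 0], 3),
  (8, [10, 12, 8, 1, 12, 7], 5),
  (8, [13, 11, 7, 0, 10, 13], 9),
  (10, [13, 11, 7, 10, 6, 12], 10),
  (6, [13, 11, 7, 10, 6, 12], 6),
  (4, [13, 11, 7, 10, 6, 12], 4),
  (2, [13, 11, 7, 10, 6, 12], 2),
  (0, [13, 11, 7, 10, 6, 12], 0),
  (8, [13, 11, 5, 3, 10, 13], 9),
  (2, [13, 11, 5, 3, 10, 13], 1),
  (6, [4, 13, 3, 13, 11, 5], 1),
  (10, [13, 11, 5, 10, 4, 12], 10),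
  (6, [13, 11, 5, 10, 4, 12], 6),
  (4, [13, 11, 5, 10, 4, 12], 4),
  (0, [13, 11, 5, 10, 4, 12], 0),
  (12, [11, 3, 7, 5, 6, 1], 12),
  (6, [12, 11, 4, 2, 10, 12], 5),
  (12, [11, 3, 4, 10, 4, 1], 12),
  (12, [11, 3, 8, 2, 9, 10], 12),
  (8, [13, 11, 3, 10, 5, 13], 9),
  (6, [12, 4, 11, 2, 10, 12], 5),
  (2, [13, 11, 3, 10, 5, 13], 1),
  (12, [4, 9, 11, 2, 10, 12], 0),
  (6, [12, 10, 8, 10, 13, 11], 3),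
  (2, [10, 12, 9, 13, 4, 3], 1),
  (4, [12, 3, 12, 2, 13, 11], 3),
  (4, [12, 0, 8, 2, 13, 11], 3),
  (4, [12, 8, 0, 2, 13, 11], 3),
  (6, [13, 9, 1, 2, 13, 11], 2),
  (6, [13, 1, 9, 2, 13, 11], 2),
  (6, [13, 2, 8, 1, 13, 11], 2),
  (4, [12, 1, 2, 1, 13, 11], 3),
  (2, [10, 12, 2, 0, 13, 5], 1),
  (2, [10, 12, 8, 13, 5, 3], 1),
  (12, [11, 1, 11, 6, 11, 13], 3),
  (12, [10, 1, 8, 0, 10, 12], 2),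
  (12, [11, 1, 7, 10, 7, 13], 3),
  (12, [11, 1, 5, 6, 4, 13], 3),
  (4, [7, 13, 0, 13, 11, 1], 3),
  (12, [9, 11, 7, 0, 10, 12], 0),
  (12, [11, 1, 8, 0, 9, 10], 12),
  (12, [9, 7, 11, 0, 10, 12], 0),
  (4, [13, 7, 9, 6, 13, 11], 1),
  (6, [12, 0, 12, 2, 13, 11], 0),
  (6, [12, 0, 8, 2, 13, 11], 0),
  (2, [6, 12, 0, 2, 13, 11], 0),
  (2, [10, 13, 1, 2, 13, 11], 0),
  (0, [10, 12, 0, 3, 12, 5], 1),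
  (4, [12, 11, 9, 11, 13, 11], 0),
  (12, [11, 0, 11, 0, 11, 13], 3),
  (12, [10, 0, 8, 1, 10, 12], 2),
  (12, [11, 0, 9, 6, 11, 13], 1),
  (12, [2, 11, 6, 1, 10, 12], 0),
  (12, [11, 0, 5, 7, 2, 11], 12),
  (12, [11, 0, 4, 7, 5, 1], 12),
  (12, [11, 0, 6, 0, 10, 13], 3),
  (12, [11, 8, 0, 9, 1, 10], 12),
  (8, [13, 11, 0, 10, 7, 13], 9),
  (12, [2, 6, 11, 1, 10, 12], 0),
  (12, [11, 2, 11, 2, 11, 1], 12),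
  (12, [10, 2, 8, 3, 10, 12], 2),
  (12, [11, 2, 5, 2, 10, 1], 12),
  (4, [7, 12, 8, 13, 11, 2], 0),
  (10, [13, 9, 0, 13, 11, 2], 1),
  (8, [11, 13, 3, 13, 11, 2], 0),
  (10, [13, 0, 9, 13, 11, 2], 1),
  (12, [9, 11, 5, 3, 10, 12], 0),
  (12, [11, 2, 6, 4, 7, 3], 12),
  (12, [11, 8, 2, 9, 3, 10], 12),
  (12, [9, 5, 11, 3, 10, 12], 0),
  (10, [13, 11, 4, 10, 5, 12], 10),
  (8, [13, 11, 4, 10, 5, 12], 8),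
  (6, [13, 11, 4, 10, 5, 12], 6),
  (4, [13, 11, 4, 10, 5, 12], 4),
  (2, [13, 11, 4, 10, 5, 12], 2),
  (0, [13, 11, 4, 10, 5, 12], 0),
  (10, [13, 11, 6, 10, 7, 12], 10),
  (8, [13, 11, 6, 10, 7, 12], 8),
  (6, [13, 11, 6, 10, 7, 12], 6),
  (4, [13, 11, 6, 10, 7, 12], 4),
  (2, [13, 11, 6, 10, 7, 12], 2),
  (0, [13, 11, 6, 10, 7, 12], 0),
  (12, [11, 8, 11, 8, 11, 12], 2),
  (12, [11, 8, 7, 9, 10, 1], 12),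
  (12, [11, 8, 5, 9, 10, 1], 12),
  (12, [11, 8, 4, 9, 10, 3], 12),
  (12, [11, 8, 6, 8, 11, 13], 1),
  (12, [11, 8, 10, 9, 10, 8], 12),
  (10, [12, 11, 7, 10, 6, 13], 10),
  (10, [12, 11, 5, 10, 4, 13], 10),
  (10, [12, 11, 4, 10, 5, 13], 10),
  (10, [12, 11, 6, 10, 7, 13], 10),
  (10, [12, 9, 3, 1, 13, 10], 9),
  (10, [12, 9, 2, 12, 5, 6], 3),
  (10, [12, 7, 1, 6, 0, 13], 10),
  (10, [12, 7, 0, 6, 1, 13], 10),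
  (10, [12, 7, 10, 6, 11, 13], 10),
  (10, [12, 5, 3, 4, 2, 13], 10),
  (10, [12, 5, 2, 4, 12, 7], 4),
  (10, [12, 5, 10, 4, 11, 13], 10),
  (10, [13, 9, 2, 12, 2, 13], 11),
  (10, [13, 2, 9, 12, 2, 13], 11),
  (10, [12, 3, 9, 1, 13, 10], 9),
  (10, [12, 3, 1, 13, 7, 5], 1),
  (10, [12, 3, 0, 12, 10, 0], 2),
  (10, [12, 3, 4, 2, 5, 13], 10),
  (10, [12, 3, 8, 2, 9, 13], 10),
  (10, [12, 1, 3, 8, 13, 10], 9),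
  (10, [12, 1, 6, 0, 7, 13], 10),
  (10, [12, 1, 8, 12, 11, 1], 3),
  (10, [12, 0, 13, 1, 13, 6], 4),
  (10, [12, 0, 9, 0, 12, 4], 6),
  (10, [12, 0, 3, 0, 13, 10], 9),
  (10, [12, 0, 2, 13, 6, 11], 3),
  (10, [12, 6, 0, 7, 1, 13], 10),
  (10, [12, 0, 12, 1, 13, 7], 5),
  (10, [12, 4, 2, 5, 12, 7], 4),
  (10, [12, 10, 4, 11, 5, 13], 10),
  (10, [12, 6, 9, 7, 12, 4], 6),
  (10, [12, 10, 6, 11, 7, 13], 10),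
  (10, [13, 1, 12, 2, 9, 13], 11),
  (10, [12, 8, 1, 12, 11, 1], 3),
  (10, [12, 8, 2, 12, 10, 2], 1),
  (4, [13, 8, 13, 9, 13, 5], 0),
  (10, [13, 9, 13, 1, 12, 7], 4),
  (12, [9, 11, 9, 11, 12, 1], 2),
  (12, [9, 11, 3, 10, 5, 12], 0),
  (12, [9, 11, 1, 10, 6, 3], 12),
  (12, [9, 11, 0, 10, 7, 12], 0),
  (12, [9, 11, 4, 10, 5, 8], 12),
  (12, [9, 11, 6, 1, 10, 3], 12),
  (6, [13, 9, 7, 9, 6, 13], 5),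
  (12, [9, 7, 9, 6, 12, 2], 0),
  (12, [9, 7, 3, 0, 2, 6], 12),
  (12, [9, 7, 10, 1, 11, 3], 12),
  (12, [9, 5, 9, 4, 12, 2], 0),
  (12, [9, 5, 1, 3, 0, 4], 12),
  (12, [9, 5, 2, 4, 2, 12], 0),
  (12, [9, 5, 10, 4, 11, 8], 12),
  (10, [13, 9, 3, 13, 10, 1], 3),
  (4, [13, 9, 1, 3, 12, 5], 0),
  (10, [13, 9, 1, 8, 0, 12], 10),
  (0, [10, 13, 9, 0, 13, 5], 1),
  (4, [13, 9, 2, 1, 13, 10], 0),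
  (6, [13, 9, 2, 0, 12, 7], 2),
  (12, [9, 4, 0, 2, 1, 5], 12),
  (6, [12, 4, 9, 5, 8, 12], 5),
  (12, [9, 4, 10, 3, 11, 12], 0),
  (12, [9, 6, 11, 1, 10, 3], 12),
  (12, [9, 6, 9, 7, 2, 12], 0),
  (12, [9, 6, 2, 1, 3, 7], 12),
  (12, [9, 6, 10, 0, 11, 12], 0),
  (12, [9, 10, 9, 11, 8, 11], 12),
  (12, [9, 10, 7, 1, 11, 3], 12),
  (12, [9, 10, 3, 4, 11, 12], 0),
  (12, [9, 10, 1, 11, 7, 3], 12),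
  (12, [9, 10, 0, 6, 11, 12], 0),
  (12, [9, 10, 2, 11, 8, 5], 12),
  (12, [9, 10, 4, 3, 11, 12], 0),
  (12, [9, 10, 6, 0, 11, 12], 0),
  (12, [9, 10, 8, 10, 0, 13], 1),
  (10, [13, 8, 12, 6, 5, 3], 0),
  (8, [10, 13, 8, 12, 6, 4], 1),
  (8, [12, 11, 7, 10, 6, 13], 8),
  (8, [12, 11, 5, 10, 4, 13], 8),
  (6, [5, 13, 9, 12, 11, 1], 3),
  (0, [11, 2, 13, 9, 12, 11], 1),
  (8, [13, 7, 11, 0, 10, 13], 9),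
  (8, [13, 5, 11, 3, 10, 13], 9),
  (8, [12, 11, 4, 10, 5, 13], 8),
  (8, [12, 11, 6, 10, 7, 13], 8),
  (2, [11, 13, 9, 12, 9, 5], 0),
  (8, [12, 7, 9, 6, 1, 13], 8),
  (8, [10, 13, 9, 12, 7, 5], 0),
  (4, [6, 13, 8, 12, 10, 2], 1),
  (8, [12, 7, 0, 6, 1, 13], 8),
  (8, [12, 7, 10, 6, 11, 13], 8),
  (8, [12, 5, 9, 4, 1, 13], 8),
  (8, [11, 13, 9, 12, 5, 7], 3),
  (6, [4, 13, 8, 12, 11, 0], 3),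
  (8, [12, 5, 3, 4, 1, 13], 8),
  (4, [6, 13, 9, 12, 5, 6], 3),
  (8, [12, 5, 10, 4, 11, 13], 8),
  (8, [13, 10, 8, 10, 1, 13], 8),
  (8, [13, 7, 8, 6, 1, 13], 9),
  (8, [13, 7, 1, 6, 1, 13], 9),
  (8, [13, 5, 8, 4, 1, 13], 9),
  (8, [13, 5, 2, 4, 1, 13], 9),
  (8, [12, 4, 8, 5, 1, 13], 8),
  (8, [13, 4, 2, 5, 1, 13], 9),
  (8, [12, 4, 3, 5, 1, 13], 8),
  (8, [13, 4, 9, 5, 1, 13], 9),
  (8, [12, 6, 8, 7, 1, 13], 8),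
  (8, [12, 6, 0, 7, 1, 13], 8),
  (8, [13, 6, 1, 7, 1, 13], 9),
  (8, [13, 6, 9, 7, 1, 13], 9),
  (10, [13, 9, 12, 4, 11, 3], 0),
  (6, [4, 13, 9, 12, 4, 11], 1),
  (8, [12, 10, 4, 11, 5, 13], 8),
  (4, [7, 13, 8, 12, 4, 7], 3),
  (8, [12, 10, 6, 11, 7, 13], 8),
  (8, [11, 13, 8, 12, 6, 11], 2),
  (8, [13, 10, 0, 6, 11, 13], 9),
  (8, [13, 10, 3, 4, 11, 13], 9),
  (2, [11, 13, 8, 12, 4, 3], 0),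
  (4, [7, 13, 9, 12, 10, 3], 1),
  (8, [13, 6, 10, 0, 11, 13], 9),
  (8, [13, 10, 6, 0, 11, 13], 9),
  (8, [13, 4, 10, 3, 11, 13], 9),
  (8, [13, 10, 4, 3, 11, 13], 9),
  (12, [7, 11, 9, 11, 7, 13], 1),
  (12, [7, 11, 1, 10, 7, 13], 3),
  (12, [2, 11, 1, 10, 6, 12], 0),
  (12, [7, 11, 4, 6, 11, 5], 12),
  (6, [12, 7, 8, 6, 12, 11], 2),
  (2, [12, 7, 8, 6, 12, 2], 1),
  (6, [13, 7, 9, 6, 9, 13], 5),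
  (12, [7, 5, 7, 5, 7, 5], 12),
  (12, [7, 5, 3, 4, 2, 6], 12),
  (12, [7, 5, 1, 11, 0, 4], 12),
  (8, [11, 12, 8, 13, 7, 5], 0),
  (6, [5, 13, 3, 13, 7, 5], 1),
  (12, [7, 5, 2, 4, 3, 6], 12),
  (4, [6, 12, 1, 12, 11, 0], 3),
  (4, [6, 12, 2, 12, 4, 7], 3),
  (12, [7, 5, 10, 5, 6, 5], 12),
  (12, [7, 3, 11, 2, 6, 4], 12),
  (12, [7, 3, 9, 2, 6, 12], 0),
  (12, [7, 3, 7, 2, 6, 1], 12),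
  (12, [7, 3, 0, 2, 6, 9], 12),
  (12, [7, 3, 4, 2, 5, 6], 12),
  (12, [7, 3, 6, 2, 6, 3], 12),
  (4, [13, 1, 12, 2, 13, 7], 3),
  (4, [13, 2, 8, 2, 13, 7], 3),
  (4, [13, 4, 8, 5, 13, 7], 3),
  (12, [7, 3, 8, 2, 9, 6], 12),
  (12, [7, 3, 10, 2, 6, 5], 12),
  (12, [8, 7, 0, 6, 12, 2], 0),
  (10, [13, 7, 1, 6, 0, 12], 10),
  (4, [13, 7, 1, 6, 0, 12], 4),
  (2, [13, 7, 1, 6, 2, 13], 1),
  (6, [13, 7, 1, 8, 6, 13], 5),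
  (12, [7, 8, 1, 6, 12, 2], 0),
  (6, [12, 7, 1, 6, 12, 5], 1),
  (6, [13, 7, 0, 6, 13, 4], 1),
  (2, [13, 7, 0, 6, 9, 13], 1),
  (10, [13, 7, 0, 6, 1, 12], 10),
  (4, [13, 7, 0, 6, 1, 12], 4),
  (12, [7, 2, 9, 3, 6, 12], 0),
  (12, [7, 2, 0, 3, 6, 3], 12),
  (12, [7, 4, 2, 5, 3, 6], 12),
  (12, [7, 2, 6, 2, 7, 3], 12),
  (12, [7, 8, 2, 9, 3, 6], 12),
  (12, [7, 4, 11, 6, 11, 5], 12),
  (12, [7, 4, 7, 10, 7, 5], 12),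
  (12, [7, 4, 0, 10, 1, 5], 12),
  (12, [7, 8, 11, 0, 10, 9], 12),
  (6, [13, 7, 8, 6, 1, 13], 5),
  (10, [13, 7, 10, 6, 11, 12], 10),
  (8, [13, 7, 10, 6, 11, 12], 8),
  (6, [13, 7, 10, 6, 11, 12], 6),
  (4, [13, 7, 10, 6, 11, 12], 4),
  (2, [13, 7, 10, 6, 11, 12], 2),
  (0, [13, 7, 10, 6, 11, 12], 0),
  (6, [12, 11, 7, 10, 6, 13], 6),
  (6, [12, 11, 5, 10, 4, 13], 6),
  (6, [12, 11, 2, 10, 4, 12], 5),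
  (6, [12, 11, 6, 10, 7, 13], 6),
  (6, [12, 9, 5, 8, 4, 12], 5),
  (6, [12, 9, 3, 1, 13, 10], 1),
  (6, [12, 9, 12, 9, 12, 11], 0),
  (6, [12, 7, 0, 6, 1, 13], 6),
  (6, [12, 7, 10, 6, 11, 13], 6),
  (6, [12, 5, 3, 4, 3, 12], 5),
  (6, [12, 5, 8, 4, 9, 12], 5),
  (6, [12, 5, 10, 2, 11, 12], 5),
  (6, [12, 0, 13, 3, 12, 4], 1),
  (6, [12, 0, 9, 0, 12, 4], 1),
  (6, [12, 0, 3, 12, 9, 5], 1),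
  (6, [12, 6, 0, 7, 1, 13], 6),
  (6, [12, 4, 3, 5, 3, 12], 5),
  (6, [12, 10, 4, 11, 5, 13], 6),
  (6, [12, 6, 9, 7, 12, 4], 1),
  (6, [12, 6, 1, 7, 12, 5], 1),
  (6, [12, 10, 6, 11, 7, 13], 6),
  (6, [12, 10, 5, 2, 11, 12], 5),
  (6, [12, 10, 2, 11, 5, 12], 5),
  (12, [5, 11, 7, 5, 6, 5], 12),
  (2, [13, 5, 11, 3, 10, 13], 1),
  (4, [12, 5, 8, 4, 12, 10], 0),
  (2, [13, 5, 9, 4, 13, 3], 1),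
  (2, [0, 13, 5, 9, 4, 13], 1),
  (6, [13, 5, 9, 4, 13, 10], 3),
  (12, [2, 5, 8, 4, 12, 2], 0),
  (12, [5, 7, 11, 5, 6, 5], 12),
  (12, [5, 7, 5, 6, 11, 5], 12),
  (12, [5, 7, 1, 6, 0, 4], 12),
  (12, [5, 7, 0, 6, 1, 4], 12),
  (6, [4, 12, 9, 13, 10, 1], 2),
  (10, [13, 5, 3, 4, 13, 5], 7),
  (6, [4, 12, 1, 12, 7, 5], 0),
  (6, [4, 12, 0, 2, 13, 6], 4),
  (10, [13, 4, 3, 5, 13, 5], 7),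
  (6, [4, 12, 8, 13, 4, 7], 3),
  (6, [13, 1, 2, 13, 5, 3], 1),
  (2, [6, 13, 0, 13, 5, 3], 1),
  (0, [10, 13, 3, 13, 5, 3], 1),
  (6, [13, 5, 3, 4, 13, 5], 1),
  (4, [12, 5, 2, 4, 12, 7], 3),
  (2, [12, 5, 2, 4, 12, 2], 1),
  (0, [13, 5, 3, 4, 2, 12], 0),
  (12, [5, 1, 11, 0, 4, 7], 12),
  (12, [5, 1, 9, 0, 4, 12], 0),
  (12, [5, 1, 5, 0, 4, 13], 3),
  (12, [5, 1, 3, 0, 4, 9], 12),
  (12, [5, 1, 4, 0, 4, 1], 12),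
  (0, [11, 3, 13, 0, 13, 5], 0),
  (6, [13, 4, 3, 5, 13, 5], 1),
  (0, [3, 5, 12, 9, 13, 5], 0),
  (0, [10, 13, 0, 9, 13, 5], 1),
  (4, [12, 1, 3, 9, 13, 5], 0),
  (12, [5, 1, 6, 0, 7, 4], 12),
  (12, [5, 1, 8, 0, 4, 13], 3),
  (12, [5, 0, 9, 1, 4, 12], 0),
  (12, [5, 0, 4, 0, 5, 1], 12),
  (12, [5, 6, 0, 7, 1, 4], 12),
  (12, [5, 0, 8, 1, 4, 13], 3),
  (12, [8, 5, 3, 4, 12, 2], 0),
  (10, [13, 5, 2, 4, 3, 12], 10),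
  (6, [13, 5, 2, 4, 3, 12], 6),
  (4, [13, 5, 2, 4, 3, 12], 4),
  (2, [13, 5, 2, 4, 2, 13], 1),
  (12, [5, 6, 5, 10, 7, 5], 12),
  (12, [5, 6, 2, 11, 3, 7], 12),
  (12, [5, 6, 10, 5, 7, 5], 12),
  (10, [13, 5, 10, 4, 11, 12], 10),
  (8, [13, 5, 10, 4, 11, 12], 8),
  (6, [13, 5, 10, 4, 11, 12], 6),
  (4, [13, 5, 10, 4, 11, 12], 4),
  (2, [13, 5, 10, 4, 11, 12], 2),
  (0, [13, 5, 10, 4, 11, 12], 0),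
  (4, [12, 11, 7, 10, 6, 13], 4),
  (4, [12, 11, 5, 10, 4, 13], 4),
  (4, [12, 11, 4, 10, 5, 13], 4),
  (4, [12, 11, 6, 10, 7, 13], 4),
  (6, [13, 1, 7, 8, 6, 13], 5),
  (4, [12, 7, 1, 6, 0, 13], 4),
  (4, [12, 7, 0, 6, 1, 13], 4),
  (4, [12, 7, 10, 6, 11, 13], 4),
  (4, [12, 5, 3, 4, 2, 13], 4),
  (4, [12, 5, 10, 4, 11, 13], 4),
  (4, [12, 3, 13, 0, 12, 7], 3),
  (4, [12, 3, 9, 2, 13, 4], 0),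
  (4, [12, 3, 4, 2, 5, 13], 4),
  (4, [12, 3, 8, 0, 12, 11], 1),
  (4, [12, 1, 13, 2, 12, 5], 0),
  (4, [12, 1, 6, 0, 7, 13], 4),
  (4, [12, 0, 3, 9, 12, 11], 1),
  (4, [12, 0, 2, 13, 4, 3], 0),
  (4, [12, 6, 0, 7, 1, 13], 4),
  (4, [12, 4, 9, 5, 12, 6], 3),
  (4, [12, 4, 2, 5, 12, 7], 3),
  (4, [12, 10, 4, 11, 5, 13], 4),
  (4, [12, 10, 6, 11, 7, 13], 4),
  (4, [12, 8, 3, 0, 12, 11], 1),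
  (12, [10, 7, 3, 12, 11, 13], 4),
  (4, [13, 0, 11, 9, 11, 13], 5),
  (0, [10, 2, 12, 2, 12, 5], 1),
  (0, [11, 3, 12, 2, 12, 4], 0),
  (4, [7, 12, 2, 12, 5, 7], 3),
  (2, [7, 12, 2, 12, 9, 5], 1),
  (8, [11, 12, 2, 12, 11, 1], 2),
  (8, [10, 13, 3, 13, 10, 3], 1),
  (0, [11, 12, 8, 2, 12, 4], 0),
  (12, [8, 5, 8, 4, 2, 12], 0),
  (12, [0, 5, 9, 4, 2, 12], 0),
  (0, [12, 3, 12, 1, 13, 3], 0),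
  (0, [12, 3, 8, 1, 13, 3], 0),
  (2, [0, 13, 2, 1, 13, 3], 1),
  (0, [12, 8, 3, 1, 13, 3], 0),
  (0, [12, 0, 9, 1, 13, 3], 0),
  (0, [12, 0, 13, 1, 13, 3], 0),
  (2, [13, 6, 8, 7, 13, 3], 1),
  (12, [2, 11, 9, 11, 13, 3], 1),
  (10, [13, 0, 2, 12, 6, 11], 3),
  (4, [13, 0, 2, 12, 4, 3], 0),
  (2, [11, 13, 0, 2, 12, 4], 0),
  (4, [13, 2, 1, 2, 12, 4], 0),
  (12, [0, 6, 8, 7, 2, 12], 0),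
  (12, [6, 8, 0, 7, 2, 12], 0),
  (12, [8, 6, 1, 7, 2, 12], 0),
  (0, [11, 12, 9, 2, 12, 5], 0),
  (10, [13, 2, 12, 0, 12, 4], 7),
  (2, [12, 11, 5, 10, 4, 13], 2),
  (12, [8, 11, 4, 2, 10, 13], 3),
  (12, [8, 4, 11, 2, 10, 13], 3),
  (12, [10, 0, 10, 0, 10, 13], 3),
  (12, [0, 11, 7, 0, 10, 13], 3),
  (12, [0, 7, 11, 0, 10, 13], 3),
  (2, [12, 11, 4, 10, 5, 13], 2),
  (2, [12, 11, 6, 10, 7, 13], 2),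
  (2, [12, 7, 10, 6, 11, 13], 2),
  (4, [13, 2, 12, 0, 12, 4], 0),
  (12, [8, 11, 2, 10, 4, 13], 3),
  (10, [13, 1, 13, 3, 12, 5], 6),
  (4, [13, 1, 13, 3, 12, 5], 0),
  (12, [4, 1, 5, 1, 4, 13], 3),
  (12, [10, 1, 5, 7, 4, 13], 3),
  (2, [12, 5, 10, 4, 11, 13], 2),
  (12, [4, 1, 3, 0, 5, 13], 3),
  (12, [4, 0, 5, 1, 5, 13], 3),
  (2, [12, 10, 4, 11, 5, 13], 2),
  (12, [8, 10, 2, 11, 5, 13], 3),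
  (12, [0, 11, 0, 10, 7, 13], 3),
  (12, [10, 9, 7, 8, 11, 13], 3),
  (12, [0, 10, 0, 6, 11, 13], 3),
  (12, [6, 10, 1, 6, 11, 13], 3),
  (12, [8, 5, 10, 2, 11, 13], 3),
  (12, [8, 10, 5, 2, 11, 13], 3),
  (12, [0, 6, 10, 0, 11, 13], 3),
  (12, [0, 10, 6, 0, 11, 13], 3),
  (12, [10, 0, 7, 0, 11, 13], 3),
  (12, [4, 8, 10, 3, 11, 13], 3),
  (2, [12, 10, 8, 10, 9, 13], 0),
  (6, [13, 1, 12, 0, 12, 11], 0),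
  (4, [13, 2, 13, 1, 13, 10], 0),
  (4, [13, 1, 9, 3, 12, 5], 0),
  (8, [11, 13, 2, 0, 12, 11], 8),
  (0, [11, 13, 2, 0, 12, 11], 1),
  (8, [11, 12, 3, 0, 12, 7], 5),
  (2, [11, 12, 3, 0, 12, 7], 3),
  (10, [13, 1, 2, 13, 10, 3], 0),
  (4, [13, 0, 3, 0, 12, 4], 0),
  (10, [13, 1, 6, 0, 7, 12], 10),
  (6, [13, 1, 6, 0, 7, 12], 6),
  (4, [13, 1, 6, 0, 7, 12], 4),
  (6, [13, 2, 9, 0, 12, 7], 2),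
  (4, [13, 1, 8, 3, 12, 4], 0),
  (10, [13, 1, 8, 1, 13, 6], 5),
  (0, [12, 11, 7, 10, 6, 13], 0),
  (0, [12, 11, 5, 10, 4, 13], 0),
  (12, [10, 5, 8, 2, 10, 13], 1),
  (0, [12, 11, 4, 10, 5, 13], 0),
  (0, [12, 11, 6, 10, 7, 13], 0),
  (12, [10, 9, 5, 9, 10, 13], 1),
  (0, [12, 7, 1, 6, 0, 13], 0),
  (0, [12, 7, 0, 6, 1, 13], 0),
  (0, [12, 7, 10, 6, 11, 13], 0),
  (12, [4, 10, 8, 10, 4, 13], 1),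
  (0, [12, 5, 9, 4, 1, 13], 0),
  (0, [12, 5, 3, 4, 2, 13], 0),
  (0, [12, 5, 10, 4, 11, 13], 0),
  (12, [0, 10, 8, 10, 2, 13], 1),
  (0, [12, 3, 4, 2, 5, 13], 0),
  (0, [12, 3, 6, 9, 7, 13], 0),
  (6, [13, 2, 13, 0, 12, 11], 0),
  (0, [12, 1, 4, 8, 5, 13], 0),
  (0, [12, 1, 6, 0, 7, 13], 0),
  (0, [13, 10, 8, 10, 1, 13], 1),
  (2, [13, 4, 9, 5, 1, 13], 1),
  (0, [12, 6, 0, 7, 1, 13], 0),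
  (2, [13, 6, 9, 7, 1, 13], 1),
  (12, [0, 11, 9, 11, 1, 13], 1),
  (12, [10, 3, 8, 10, 5, 13], 1),
  (0, [12, 10, 4, 11, 5, 13], 0),
  (2, [0, 13, 6, 8, 7, 13], 1),
  (2, [13, 6, 1, 9, 7, 13], 1),
  (0, [12, 10, 6, 11, 7, 13], 0),
  (2, [13, 4, 8, 5, 9, 13], 1),
  (2, [13, 6, 0, 7, 9, 13], 1),
  (2, [13, 10, 3, 4, 11, 13], 1),
  (12, [6, 11, 9, 1, 11, 13], 1),
  (2, [13, 4, 10, 3, 11, 13], 1),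
  (2, [13, 10, 4, 3, 11, 13], 1),
  (8, [10, 13, 0, 13, 4, 7], 3),
  (0, [11, 13, 0, 13, 4, 3], 0),
  (0, [11, 12, 1, 12, 9, 5], 0),
  (12, [0, 11, 5, 10, 4, 1], 12),
  (12, [10, 2, 10, 2, 10, 1], 12),
  (12, [2, 11, 4, 2, 10, 1], 12),
  (12, [2, 4, 11, 2, 10, 1], 12),
  (12, [10, 3, 7, 4, 6, 1], 12),
  (12, [6, 3, 7, 3, 6, 1], 12),
  (12, [2, 11, 2, 10, 4, 1], 12),
  (12, [4, 11, 3, 10, 4, 1], 12),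
  (12, [10, 0, 4, 6, 5, 1], 12),
  (12, [4, 0, 4, 1, 5, 1], 12),
  (12, [0, 10, 4, 11, 5, 1], 12),
  (12, [2, 10, 2, 11, 5, 1], 12),
  (12, [10, 5, 3, 11, 5, 1], 12),
  (12, [10, 3, 5, 11, 5, 1], 12),
  (10, [13, 6, 0, 7, 1, 12], 10),
  (4, [13, 6, 0, 7, 1, 12], 4),
  (12, [6, 2, 7, 3, 7, 1], 12),
  (12, [10, 9, 6, 8, 11, 1], 12),
  (12, [10, 9, 4, 8, 11, 1], 12),
  (12, [2, 5, 10, 2, 11, 1], 12),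
  (12, [10, 2, 4, 2, 11, 1], 12),
  (12, [2, 10, 5, 2, 11, 1], 12),
  (12, [2, 11, 7, 10, 6, 3], 12),
  (4, [13, 2, 9, 1, 13, 10], 0),
  (12, [2, 7, 10, 1, 11, 12], 0),
  (6, [13, 2, 1, 13, 4, 3], 1),
  (2, [7, 12, 0, 3, 12, 4], 1),
  (4, [13, 8, 1, 3, 12, 4], 0),
  (10, [13, 4, 2, 5, 3, 12], 10),
  (6, [13, 4, 2, 5, 3, 12], 6),
  (4, [13, 4, 2, 5, 3, 12], 4),
  (12, [6, 3, 9, 2, 7, 3], 12),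
  (12, [6, 2, 6, 3, 7, 3], 12),
  (12, [6, 2, 9, 3, 7, 3], 12),
  (12, [10, 2, 6, 5, 7, 3], 12),
  (12, [2, 10, 6, 11, 7, 3], 12),
  (10, [13, 8, 2, 9, 3, 12], 10),
  (12, [2, 10, 7, 1, 11, 12], 0),
  (12, [2, 10, 1, 11, 7, 12], 0),
  (12, [4, 11, 6, 10, 7, 5], 12),
  (12, [4, 9, 1, 8, 0, 5], 12),
  (12, [4, 9, 0, 8, 1, 5], 12),
  (10, [13, 8, 3, 13, 4, 7], 2),
  (12, [4, 7, 1, 6, 0, 5], 12),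
  (12, [4, 7, 0, 6, 1, 5], 12),
  (12, [6, 5, 6, 5, 6, 5], 12),
  (12, [4, 7, 10, 6, 11, 5], 12),
  (2, [11, 12, 0, 2, 13, 4], 0),
  (6, [13, 6, 0, 7, 13, 4], 1),
  (12, [4, 1, 2, 0, 5, 12], 0),
  (12, [4, 1, 6, 0, 7, 5], 12),
  (12, [4, 1, 8, 0, 9, 5], 12),
  (12, [8, 4, 0, 3, 1, 5], 12),
  (12, [4, 6, 0, 7, 1, 5], 12),
  (12, [4, 8, 0, 9, 1, 5], 12),
  (12, [6, 4, 0, 11, 1, 5], 12),
  (12, [6, 10, 4, 10, 7, 5], 12),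
  (12, [6, 2, 11, 3, 7, 5], 12),
  (12, [10, 5, 6, 5, 7, 5], 12),
  (12, [6, 5, 11, 5, 7, 5], 12),
  (12, [8, 11, 3, 10, 9, 5], 12),
  (10, [13, 10, 4, 11, 5, 12], 10),
  (6, [13, 10, 4, 11, 5, 12], 6),
  (4, [13, 10, 4, 11, 5, 12], 4),
  (0, [13, 10, 4, 11, 5, 12], 0),
  (10, [13, 6, 8, 7, 13, 6], 5),
  (12, [6, 5, 3, 4, 2, 7], 12),
  (12, [6, 5, 2, 4, 3, 7], 12),
  (4, [13, 6, 8, 7, 13, 6], 3),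
  (12, [6, 3, 1, 2, 7, 12], 0),
  (12, [6, 3, 4, 2, 5, 7], 12),
  (12, [6, 3, 8, 2, 9, 7], 12),
  (12, [8, 6, 2, 0, 3, 7], 12),
  (12, [6, 4, 2, 5, 3, 7], 12),
  (12, [6, 8, 2, 9, 3, 7], 12),
  (12, [8, 11, 0, 10, 9, 7], 12),
  (10, [13, 10, 6, 11, 7, 12], 10),
  (6, [13, 10, 6, 11, 7, 12], 6),
  (4, [13, 10, 6, 11, 7, 12], 4),
  (2, [13, 10, 6, 11, 7, 12], 2),
  (0, [13, 10, 6, 11, 7, 12], 0),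
  (10, [13, 8, 13, 8, 13, 10], 9),
  (12, [8, 11, 7, 10, 6, 9], 12),
  (12, [8, 11, 5, 10, 4, 9], 12),
  (12, [8, 11, 6, 10, 7, 9], 12),
  (12, [8, 7, 10, 6, 11, 9], 12),
  (2, [11, 12, 1, 9, 12, 11], 1),
  (12, [8, 10, 4, 11, 5, 9], 12),
  (12, [8, 10, 6, 11, 7, 9], 12),
  (12, [10, 9, 11, 8, 11, 9], 12),
  (12, [10, 9, 3, 8, 2, 11], 12),
  (12, [10, 9, 1, 8, 0, 11], 12),
  (12, [10, 9, 0, 8, 1, 11], 12),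
  (12, [10, 9, 2, 8, 3, 11], 12)]
def relsT : List (List ℕ) := relsL ++ [[12, 12, 12]] ++ dataTA.map relA

end Cfsg.Agent.Lib.Helper20.TitsM
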